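import Mathlib
import Cfsg.Agent.J1S.BasA

/-!
# The exceptional configuration for `SL₂(8)`

`U` is called `E` here; the notation follows `J1S`.
-/

set_option autoImplicit false
set_option linter.unusedSectionVars false

namespace Cfsg.Agent.L2S.E8

open Cfsg Cfsg.Agent.GT Cfsg.Agent.Loc.Mss Cfsg.Agent.StdB Cfsg.Agent.J1S Subgroup
open scoped commutatorElement

/-- `G = X ⟨t⟩` with `X` simple and `C(t)` like `⟨t⟩ × ΣL₂(8) × O`. -/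
structure Cfg (G : Type*) [Group G] where
  /-- the simple normal subgroup -/
  X : Subgroup G
  /-- the core of `C(t)` -/
  O : Subgroup G
  /-- the involution -/
  t : G
  /-- first basis element -/
  z : G
  /-- second basis element -/
  v0 : G
  /-- third basis element -/
  v1 : G
  /-- an element of order seven -/
  σ : G
  /-- a field automorphism -/
  b : G
  nX : X.Normal
  simple : IsSimpleGroup X
  top : ∀ g, g ∈ X ∨ g * t ∈ X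
  tt : t * t = 1
  t_ne : t ≠ 1
  not_le : ¬ X ≤ C1 t
  zz : z * z = 1
  v0_sq : v0 * v0 = 1
  v1_sq : v1 * v1 = 1
  zv0 : Commute z v0
  zv1 : Commute z v1
  v01 : Commute v0 v1
  ind : ∀ x : V3, z ^ x.1.val * v0 ^ x.2.1.val * v1 ^ x.2.2.val = 1 → x = 0
  E_X : closure {z, v0, v1} ≤ X
  E_t : closure {z, v0, v1} ≤ C1 t
  t_notMem : t ∉ closure {z, v0, v1}
  not_conj_E : ∀ {e}, e ∈ closure {z, v0, v1} → ¬ IsConj t e
  sylEt : Syl 2 (closure {z, v0, v1} ⊔ zpowers t) (C1 t)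
  odd : Odd (Nat.card O)
  O_t : O ≤ C1 t
  O_cent : O ≤ 𝐂[closure {z, v0, v1}]
  norm_O : C1 t ≤ 𝐍[O]
  cent_tE : ∀ {g}, g ∈ C1 t → g ∈ 𝐂[closure {z, v0, v1}] →
    ∃ e ∈ closure {z, v0, v1}, ∃ o ∈ O, g = e * o ∨ g = t * (e * o)
  cent_z : C1 t ⊓ C1 z ≤ 𝐍[closure {z, v0, v1}]
  σ_t : σ ∈ C1 t
  σ_O : σ ∈ 𝐂[O]
  σ_norm : σ ∈ 𝐍[closure {z, v0, v1}]
  σ7 : σ ^ 7 = 1
  σ_E : σ ∉ 𝐂[closure {z, v0, v1}]
  b_t : b ∈ C1 t
  b_O : b ∈ 𝐂[O]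
  b_z : b * z * b⁻¹ = z
  b_v0 : b * v0 * b⁻¹ = v1
  b_v1 : b * v1 * b⁻¹ = v0 * v1
  b_odd : Odd (orderOf b)
  fix3 : ∀ ρ ∈ C1 t, ρ ^ 3 = 1 → ρ * z * ρ⁻¹ = z → ρ * v0 * ρ⁻¹ = v1 → ρ * v1 * ρ⁻¹ = v0 * v1 →
    ∃ y ∈ C1 t ⊓ C1 ρ, y ≠ 1 ∧ y ^ 3 = 1 ∧ z * y * z = y⁻¹ ∧
      ∀ g ∈ C1 t ⊓ C1 ρ, ∃ i : ℕ, y ^ i * g ∈ C1 z
  nine : ∃ x ∈ C1 t, orderOf x = 9

namespace Cfg

variable {G : Type*} [Group G] (c : Cfg G)

/-- The elementary abelian group of order eight. -/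
def E : Subgroup G := closure {c.z, c.v0, c.v1}
/-- Coordinates on `E`. -/
def ε (x : V3) : G := c.z ^ x.1.val * c.v0 ^ x.2.1.val * c.v1 ^ x.2.2.val

open Classical in
/-- The matrix of `g ∈ N(E)`. -/
noncomputable def mat (g : G) : G3 :=
  if h : ∃ m : G3, ∀ x, g * c.ε x * g⁻¹ = c.ε (m.ap x) then h.choose else 1

/-- A stage of the tower. -/
structure St (W : Subgroup G) : Prop where
  pg : IsPGroup 2 W
  E_le : c.E ≤ W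
  inf : W ⊓ C1 c.t ≤ c.E
  nt : c.t ∈ 𝐍[W]
  nA : C1 c.t ⊓ 𝐍[c.E] ≤ 𝐍[W]
  cO : W ≤ 𝐂[c.O]

/-- The conjugates of `t` in `W ⟨t⟩` are conjugate under `W`. -/
def Tm (W : Subgroup G) : Prop :=
  ∀ g : G, g * c.t * g⁻¹ ∈ W ⊔ zpowers c.t → ∃ w ∈ W, g * c.t * g⁻¹ = w * c.t * w⁻¹

/-- A homocyclic stage inverted by `t` with `t W ⊆ t ^ G`. -/
structure Iv (W : Subgroup G) : Prop extends c.St W where
  comm : W ≤ 𝐂[W]
  om : ∀ w ∈ W, w * w = 1 → w ∈ c.E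
  inv : ∀ w ∈ W, c.t * w * c.t = w⁻¹
  all : ∀ w ∈ W, IsConj c.t (w * c.t)

/-- The power map `W → E`. -/
structure Pi (W : Subgroup G) (r : ℕ) (π : G → V3) : Prop where
  add : ∀ w ∈ W, ∀ w' ∈ W, π (w * w') = π w + π w'
  pow : ∀ w ∈ W, c.ε (π w) = w ^ 2 ^ r
  surj : ∀ x, ∃ w ∈ W, π w = x
  ker : ∀ w ∈ W, π w = 0 → ∃ u ∈ W, w = u * u

/-- `M = N(W ⟨t⟩)`. -/
def M (W : Subgroup G) : Subgroup G := 𝐍[W ⊔ zpowers c.t]

/-- The linear case: `N(W ⟨t⟩) / W ⟨t⟩ O = GL₃(2)`. -/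
structure L0 (W : Subgroup G) : Prop extends c.Iv W where
  nW : c.M W ≤ 𝐍[W]
  nE : c.M W ≤ 𝐍[c.E]
  nO : c.M W ≤ 𝐍[c.O]
  ker : c.M W ⊓ 𝐂[c.E] ≤ W ⊔ zpowers c.t ⊔ c.O
  surj : ∀ m, ∃ g ∈ c.M W ⊓ 𝐂[c.O], c.mat g = m

/-- The fusion of `t` in the linear case. -/
structure L1 (W : Subgroup G) : Prop extends c.L0 W where
  notX : ∀ g : G, g * c.t * g⁻¹ ∉ c.X
  cls : ∀ g ∈ c.M W ⊓ 𝐂[c.O], IsConj c.t g → g ∈ 𝐂[c.E]
  two : ∀ P : Subgroup G, IsPGroup 2 P → P ≤ c.X → Nat.card P ≤ 8 * Nat.card W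

/-- The group `N = W . GL₃(2)`. -/
structure LD where
  /-- the homocyclic group -/
  W : Subgroup G
  /-- the extension -/
  N : Subgroup G
  /-- `W` has exponent `2 ^ (r + 1)` -/
  r : ℕ
  /-- the power map -/
  π : G → V3
  /-- an element of order three -/
  ρ : G
  /-- an element inverting `ρ` -/
  j : G
  l1 : c.L1 W
  pi : c.Pi W r π
  W_le : W ≤ N
  N_le : N ≤ c.X ⊓ (c.M W ⊓ 𝐂[c.O])
  perf : N ≤ ⁅N, N⁆
  ker : ∀ n ∈ N, c.mat n = 1 → n ∈ W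
  surj : ∀ m, ∃ n ∈ N, c.mat n = m
  tN : ∀ n ∈ N, n * c.t * n⁻¹ * c.t ∈ W
  norm : ∀ g ∈ c.M W, ∃ n ∈ N, ∃ o ∈ c.O, g = n * o ∨ g = n * c.t * o
  ρ_mem : ρ ∈ N
  ρ_eq : ∃ o ∈ c.O, ρ = c.b * o
  ρ3 : ρ ^ 3 = 1
  j_mem : j ∈ N
  j_mat : c.mat j = mJ
  jρ : j * ρ * j⁻¹ = ρ⁻¹

variable {c}

namespace LD

variable (d : c.LD)

/-- `D = C_W(ρ)`. -/
def D : Subgroup G := d.W ⊓ C1 d.ρ
/-- The generator `[j, t]` of `D`. -/
def a : G := d.j * c.t * d.j⁻¹ * c.t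
/-- The norm `W → D`. -/
def ν (w : G) : G := w * (d.ρ * w * d.ρ⁻¹) * (d.ρ⁻¹ * w * d.ρ)

/-- The facts on `j` and `D`. -/
structure JD : Prop where
  a_mem : d.a ∈ d.D
  π_a : d.π d.a = (1, 0, 0)
  D_le : d.D ≤ zpowers d.a
  j_inv : d.j * d.a * d.j⁻¹ = d.a⁻¹
  jj : d.j * d.j = 1 ∨ (d.j * d.j = c.z ∧ d.r ≠ 0)

end LD

variable (c)

theorem t_inv : c.t⁻¹ = c.t := inv_eq_of_mul_eq_one_right c.tt
theorem ε_add (x y : V3) : c.ε (x + y) = c.ε x * c.ε y := by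
  simp only [ε, Prod.fst_add, Prod.snd_add, pow_val_add c.zz, pow_val_add c.v0_sq,
    pow_val_add c.v1_sq]
  rw [(c.zv0.pow_pow _ _).mul_mul_mul_comm,
    ((c.zv1.pow_pow _ _).mul_left (c.v01.pow_pow _ _)).mul_mul_mul_comm]

theorem ε_zero : c.ε 0 = 1 := by simp [ε]
theorem ε_z : c.ε (1, 0, 0) = c.z := by simp [ε, ZMod.val_one]
theorem ε_v0 : c.ε (0, 1, 0) = c.v0 := by simp [ε, ZMod.val_one]
theorem ε_v1 : c.ε (0, 0, 1) = c.v1 := by simp [ε, ZMod.val_one]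

theorem ε_sq (x : V3) : c.ε x * c.ε x = 1 := by
  rw [← ε_add, show x + x = 0 by revert x; decide, ε_zero]

theorem ε_inv (x : V3) : (c.ε x)⁻¹ = c.ε x := inv_eq_of_mul_eq_one_right (c.ε_sq x)

theorem ε_comm (x y : V3) : c.ε x * c.ε y = c.ε y * c.ε x := by rw [← ε_add, add_comm, ε_add]

theorem ε_eq_one {x : V3} : c.ε x = 1 ↔ x = 0 := ⟨c.ind x, fun h => h ▸ c.ε_zero⟩

theorem z_ne : c.z ≠ 1 := fun h => absurd (c.ε_eq_one.1 (c.ε_z.trans h)) (by decide)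

theorem ε_inj : Function.Injective c.ε := fun x y h => by
  have : c.ε (x + y) = 1 := by rw [ε_add, h, ε_sq]
  have k : ∀ x y : V3, x + y = 0 → x = y := by decide
  exact k x y (c.ε_eq_one.1 this)

/-- The coordinates as a homomorphism. -/
def εH : Multiplicative V3 →* G := MonoidHom.mk' (fun x => c.ε x.toAdd) fun _ _ => c.ε_add _ _

theorem E_eq : c.E = c.εH.range := by
  refine le_antisymm ((closure_le _).2 ?_) ?_
  · rintro _ (rfl | rfl | rfl)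
    exacts [⟨_, c.ε_z⟩, ⟨_, c.ε_v0⟩, ⟨_, c.ε_v1⟩]
  · rintro _ ⟨x, rfl⟩
    exact mul_mem (mul_mem (pow_mem (subset_closure (by simp)) _)
      (pow_mem (subset_closure (by simp)) _)) (pow_mem (subset_closure (by simp)) _)

theorem mem_E {g : G} : g ∈ c.E ↔ ∃ x, c.ε x = g := by rw [E_eq]; exact Iff.rfl

theorem ε_mem (x : V3) : c.ε x ∈ c.E := c.mem_E.2 ⟨x, rfl⟩
theorem z_mem : c.z ∈ c.E := c.ε_z ▸ c.ε_mem _
theorem v0_mem : c.v0 ∈ c.E := c.ε_v0 ▸ c.ε_mem _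
theorem v1_mem : c.v1 ∈ c.E := c.ε_v1 ▸ c.ε_mem _

theorem card_E : Nat.card c.E = 8 := by
  rw [E_eq, ← Nat.card_congr (MonoidHom.ofInjective (f := c.εH) c.ε_inj).toEquiv]
  simp

theorem pg_E : IsPGroup 2 c.E := IsPGroup.of_card (n := 3) c.card_E

theorem E_sq {e : G} (h : e ∈ c.E) : e * e = 1 := by
  obtain ⟨x, rfl⟩ := c.mem_E.1 h
  exact c.ε_sq x

theorem E_comm : c.E ≤ 𝐂[c.E] := fun e he => mem_cent.2 fun e' he' => by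
  obtain ⟨x, rfl⟩ := c.mem_E.1 he
  obtain ⟨y, rfl⟩ := c.mem_E.1 he'
  exact c.ε_comm y x

theorem mem_cent_E {g : G} : g ∈ 𝐂[c.E] ↔ ∀ x, g * c.ε x * g⁻¹ = c.ε x := by
  rw [mem_cent]
  refine ⟨fun h x => by rw [← h _ (c.ε_mem x), mul_inv_cancel_right], fun h e he => ?_⟩
  obtain ⟨x, rfl⟩ := c.mem_E.1 he
  exact (mul_inv_eq_iff_eq_mul.1 (h x)).symm

variable {c}

theorem mat_eq {g : G} {m : G3} (h : ∀ x, g * c.ε x * g⁻¹ = c.ε (m.ap x)) : c.mat g = m := by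
  have h1 : ∃ m : G3, ∀ x, g * c.ε x * g⁻¹ = c.ε (m.ap x) := ⟨m, h⟩
  rw [mat, dif_pos h1]
  exact G3.ext' fun x => c.ε_inj ((h1.choose_spec x).symm.trans (h x))

theorem spec_of {g : G} {m : M3} (h0 : g * c.z * g⁻¹ = c.ε m.a) (h1 : g * c.v0 * g⁻¹ = c.ε m.b)
    (h2 : g * c.v1 * g⁻¹ = c.ε m.c) (x : V3) : g * c.ε x * g⁻¹ = c.ε (m.ap x) := by
  have k : ∀ (a : ZMod 2) (v : V3), c.ε v ^ a.val = c.ε (a * v.1, a * v.2.1, a * v.2.2) := by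
    intro a v
    have : ∀ a : ZMod 2, a = 0 ∨ a = 1 := by decide
    rcases this a with rfl | rfl
    · simp only [zero_mul, ZMod.val_zero, pow_zero]; exact c.ε_zero.symm
    · simp [ZMod.val_one]
  rw [ε, ← conj_mul, ← conj_mul, ← conj_pow, ← conj_pow, ← conj_pow, h0, h1, h2, k, k, k,
    ← ε_add, ← ε_add]
  rfl

/-- The matrix from the images of the basis. -/
theorem mat_eq' {g : G} {m : G3} (h0 : g * c.z * g⁻¹ = c.ε m.1.a) (h1 : g * c.v0 * g⁻¹ = c.ε m.1.b)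
    (h2 : g * c.v1 * g⁻¹ = c.ε m.1.c) : c.mat g = m := mat_eq (spec_of h0 h1 h2)

theorem mat_spec {g : G} (hg : g ∈ 𝐍[c.E]) (x : V3) :
    g * c.ε x * g⁻¹ = c.ε ((c.mat g).ap x) := by
  obtain ⟨a, h0⟩ := c.mem_E.1 (conj_mem_of_norm hg c.z_mem)
  obtain ⟨b, h1⟩ := c.mem_E.1 (conj_mem_of_norm hg c.v0_mem)
  obtain ⟨d, h2⟩ := c.mem_E.1 (conj_mem_of_norm hg c.v1_mem)
  have h := spec_of (m := ⟨a, b, d⟩) h0.symm h1.symm h2.symm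
  have h3 := M3.det_of_inj ⟨a, b, d⟩ fun x hx => c.ε_eq_one.1 (conj_eq_one_iff.1 (by
    rw [h, hx, ε_zero]))
  rw [mat_eq (m := ⟨_, h3⟩) h]
  exact h x

theorem mat_mul {g g' : G} (hg : g ∈ 𝐍[c.E]) (hg' : g' ∈ 𝐍[c.E]) :
    c.mat (g * g') = c.mat g * c.mat g' := mat_eq fun x => by
  rw [G3.ap_mul, ← mat_spec hg, ← mat_spec hg']; group

theorem mat_eq_one {g : G} (hg : g ∈ 𝐂[c.E]) : c.mat g = 1 :=
  mat_eq fun x => by rw [G3.ap_one, c.mem_cent_E.1 hg]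

theorem cent_of_mat {g : G} (hg : g ∈ 𝐍[c.E]) (h : c.mat g = 1) : g ∈ 𝐂[c.E] :=
  c.mem_cent_E.2 fun x => by rw [mat_spec hg, h, G3.ap_one]

theorem mat_one : c.mat 1 = 1 := mat_eq_one (one_mem _)

variable (c) in
/-- The action of `N(E)` on `E`. -/
noncomputable def matH : 𝐍[c.E] →* G3 := MonoidHom.mk' (fun g => c.mat g) fun g g' => mat_mul g.2 g'.2

theorem mat_inv {g : G} (hg : g ∈ 𝐍[c.E]) : c.mat g⁻¹ = (c.mat g)⁻¹ := c.matH.map_inv ⟨g, hg⟩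

theorem mat_pow {g : G} (hg : g ∈ 𝐍[c.E]) (n : ℕ) : c.mat (g ^ n) = c.mat g ^ n :=
  c.matH.map_pow ⟨g, hg⟩ n

theorem mat_conj {g g' : G} (hg : g ∈ 𝐍[c.E]) (hg' : g' ∈ 𝐍[c.E]) :
    c.mat (g * g' * g⁻¹) = c.mat g * c.mat g' * (c.mat g)⁻¹ := by
  rw [mat_mul (mul_mem hg hg') (inv_mem hg), mat_mul hg hg', mat_inv hg]

variable (c)

theorem E_le_X : c.E ≤ c.X := c.E_X

theorem E_le_C : c.E ≤ C1 c.t := c.E_t

theorem t_cent : c.t ∈ 𝐂[c.E] := mem_cent.2 fun _ he => mem_C1.1 (c.E_t he)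

theorem b_spec (x : V3) : c.b * c.ε x * c.b⁻¹ = c.ε (mR.ap x) :=
  spec_of (m := mR.1) (c.b_z.trans c.ε_z.symm) (c.b_v0.trans c.ε_v1.symm)
    (c.b_v1.trans ((congrArg₂ (· * ·) c.ε_v0 c.ε_v1).symm.trans (c.ε_add _ _).symm)) x

theorem mat_b : c.mat c.b = mR := mat_eq c.b_spec

theorem mat_σ : c.mat c.σ ^ 7 = 1 ∧ c.mat c.σ ≠ 1 :=
  ⟨by rw [← mat_pow c.σ_norm, c.σ7, mat_one], fun h => c.σ_E (cent_of_mat c.σ_norm h)⟩

theorem σ_ne : c.σ ≠ 1 := fun h => c.σ_E (h ▸ one_mem _)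

/-- `σ` is transitive on the involutions of `E`. -/
theorem σ_trans {x y : V3} (hx : x ≠ 0) (hy : y ≠ 0) :
    ∃ k : ℕ, c.σ ^ k * c.ε x * (c.σ ^ k)⁻¹ = c.ε y := by
  have h : ∀ m : G3, m ^ 7 = 1 → m ≠ 1 → ∀ x y : V3, x ≠ 0 → y ≠ 0 →
      ∃ k : Fin 7, (m ^ k.1).ap x = y := by decide +kernel
  obtain ⟨k, hk⟩ := h _ c.mat_σ.1 c.mat_σ.2 x y hx hy
  exact ⟨k, by rw [mat_spec (pow_mem c.σ_norm _), mat_pow c.σ_norm, hk]⟩

theorem σ_fpf {x : V3} (h : (c.mat c.σ).ap x = x) : x = 0 := by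
  have k : ∀ m : G3, m ^ 7 = 1 → m ≠ 1 → ∀ x : V3, m.ap x = x → x = 0 := by decide +kernel
  exact k _ c.mat_σ.1 c.mat_σ.2 x h

variable [Finite G]

theorem b_norm : c.b ∈ 𝐍[c.E] := mem_norm_of_cj_le (cj_le_iff.2 fun e he => by
  obtain ⟨x, rfl⟩ := c.mem_E.1 he
  exact c.b_spec x ▸ c.ε_mem _)

variable {c}

theorem Pi.conj {W : Subgroup G} {r : ℕ} {π : G → V3} (h : c.Pi W r π) {g w : G}
    (hg : g ∈ 𝐍[W]) (hE : g ∈ 𝐍[c.E]) (hw : w ∈ W) :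
    π (g * w * g⁻¹) = (c.mat g).ap (π w) :=
  c.ε_inj (by rw [h.pow _ (conj_mem_of_norm hg hw), ← mat_spec hE, h.pow w hw, conj_pow])

variable (c) in
/-- The elements of `K ≤ N(E)` with matrix in `S`. -/
noncomputable def pre (K : Subgroup G) (S : Subgroup G3) : Subgroup G := K ⊓ (S.comap c.matH).map 𝐍[c.E].subtype

theorem mem_pre {K : Subgroup G} {S : Subgroup G3} {g : G} :
    g ∈ c.pre K S ↔ g ∈ K ∧ g ∈ 𝐍[c.E] ∧ c.mat g ∈ S :=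
  and_congr_right fun _ => ⟨by rintro ⟨x, hx, rfl⟩; exact ⟨x.2, hx⟩,
    fun h => ⟨⟨g, h.1⟩, h.2, rfl⟩⟩

/-- The order of the preimage. -/
theorem card_pre {K : Subgroup G} (hK : K ≤ 𝐍[c.E]) (hs : ∀ m, ∃ g ∈ K, c.mat g = m)
    (S : Subgroup G3) : Nat.card (c.pre K S) = Nat.card (c.pre K ⊥) * Nat.card S := by
  let f : K →* G3 := c.matH.comp (inclusion hK)
  have e : ∀ S, c.pre K S = (S.comap f).map K.subtype := fun S => by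
    ext g
    rw [mem_pre]
    exact ⟨fun h => ⟨⟨g, h.1⟩, h.2.2, rfl⟩, by rintro ⟨x, hx, rfl⟩; exact ⟨x.2, hK x.2, hx⟩⟩
  have hf : Function.Surjective f := fun m => by
    obtain ⟨g, hg, h⟩ := hs m
    exact ⟨⟨g, hg⟩, h⟩
  rw [e, e, card_subtype, card_subtype, MonoidHom.comap_bot, ← relIndex_bot_left,
    ← relIndex_mul_relIndex ⊥ f.ker (S.comap f) bot_le (MonoidHom.ker_le_comap f S),
    relIndex_bot_left, relIndex_ker, map_comap_eq_self_of_surjective hf]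

namespace LD

variable (d : c.LD)

theorem N_X : d.N ≤ c.X := d.N_le.trans inf_le_left
theorem N_M : d.N ≤ c.M d.W := d.N_le.trans (inf_le_right.trans inf_le_left)
theorem N_O : d.N ≤ 𝐂[c.O] := d.N_le.trans (inf_le_right.trans inf_le_right)
theorem nW : d.N ≤ 𝐍[d.W] := d.N_M.trans d.l1.nW
theorem nE : d.N ≤ 𝐍[c.E] := d.N_M.trans d.l1.nE
theorem W_E : d.W ≤ 𝐂[c.E] := d.l1.comm.trans (cent_anti d.l1.E_le)
theorem mat_W {w : G} (h : w ∈ d.W) : c.mat w = 1 := mat_eq_one (d.W_E h)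

theorem π_conj {n w : G} (hn : n ∈ d.N) (hw : w ∈ d.W) :
    d.π (n * w * n⁻¹) = (c.mat n).ap (d.π w) := d.pi.conj (d.nW hn) (d.nE hn) hw

theorem mat_ρ : c.mat d.ρ = mR := by
  obtain ⟨o, ho, e⟩ := d.ρ_eq
  rw [e, mat_mul c.b_norm (cent_le_norm _ (c.O_cent ho)), mat_eq_one (c.O_cent ho), mul_one,
    mat_b]

/-- The Sylow subgroup `W F₄ ⟨j⟩` of `X`, centralizing `z`. -/
noncomputable def T : Subgroup G := c.pre d.N D8
/-- `W F₄`. -/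
noncomputable def T1 : Subgroup G := c.pre d.N F4
/-- The Sylow subgroup `W F₄' ⟨j⟩` of `X`, centralizing `v₀`. -/
noncomputable def T' : Subgroup G := c.pre d.N D8'
/-- `W F₄' = C_N(V)`. -/
noncomputable def P' : Subgroup G := c.pre d.N F4'
theorem mem_pre' {S : Subgroup G3} {g : G} : g ∈ c.pre d.N S ↔ g ∈ d.N ∧ c.mat g ∈ S :=
  mem_pre.trans (and_congr_right fun h => and_iff_right (d.nE h))

theorem pre_bot : c.pre d.N ⊥ = d.W := by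
  ext g
  rw [mem_pre', mem_bot]
  exact ⟨fun h => d.ker g h.1 h.2, fun h => ⟨d.W_le h, d.mat_W h⟩⟩

theorem card_pre' (S : Subgroup G3) : Nat.card (c.pre d.N S) = Nat.card d.W * Nat.card S := by
  rw [card_pre d.nE d.surj, pre_bot]

theorem W_le_pre (S : Subgroup G3) : d.W ≤ c.pre d.N S := fun _ h =>
  d.mem_pre'.2 ⟨d.W_le h, d.mat_W h ▸ one_mem S⟩

theorem syl_pre {S : Subgroup G3} (h : Nat.card S = 8) : Syl 2 (c.pre d.N S) c.X := by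
  have h1 : c.pre d.N S ≤ c.X := inf_le_left.trans d.N_X
  obtain ⟨k, hk⟩ := IsPGroup.iff_card.1 d.l1.pg
  have h2 : IsPGroup 2 (c.pre d.N S) := IsPGroup.of_card (n := k + 3) (by
    rw [card_pre', hk, h, pow_add]; rfl)
  obtain ⟨P, h3, h4⟩ := Syl.exists_ge h2 h1
  rwa [PG.eq_of_le_of_card_le h3 (by
    rw [card_pre', h, mul_comm]; exact d.l1.two P h4.pg h4.le)]

theorem sylT : Syl 2 d.T c.X := d.syl_pre J1S.Cfg.card_D8
theorem sylT' : Syl 2 d.T' c.X := d.syl_pre J1S.Cfg.card_D8'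

end LD

end Cfg

end Cfsg.Agent.L2S.E8
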