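import Mathlib
import Cfsg.Agent.L2S.E8
import Cfsg.Agent.J1S.BasB
import Cfsg.Agent.Inv.SingerMain

/-! The centralizer of `t` and the stages. -/

set_option autoImplicit false
set_option linter.unusedSectionVars false

namespace Cfsg.Agent.L2S.E8

open Cfsg Cfsg.Agent.GT Cfsg.Agent.Loc.Mss Cfsg.Agent.StdB Cfsg.Agent.J1S Subgroup
open scoped commutatorElement

variable {G : Type*} [Group G] [Finite G] {c : Cfg G}

open BasB

namespace Cfg

variable (c)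

theorem t_norm_E : c.t ∈ 𝐍[c.E] := cent_le_norm _ c.t_cent

theorem mem_Et {g : G} : g ∈ c.E ⊔ zpowers c.t ↔ g ∈ c.E ∨ g * c.t ∈ c.E :=
  mem_sup_two c.t_norm_E c.tt

theorem Et_le : c.E ⊔ zpowers c.t ≤ C1 c.t :=
  sup_le c.E_le_C (zpowers_le.2 (mem_C1.2 rfl))

theorem sylE : Syl 2 (c.E ⊔ zpowers c.t) (C1 c.t) := c.sylEt

theorem card_Et : Nat.card ↥(c.E ⊔ zpowers c.t) = 16 := by
  rw [PG.card_sup_zpowers Nat.prime_two c.t_norm_E c.t_notMem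
    (by rw [pow_two, c.tt]; exact one_mem _), card_E]

theorem Et_sq {g : G} (h : g ∈ c.E ⊔ zpowers c.t) : g * g = 1 := by
  rcases c.mem_Et.1 h with h1 | h1
  · exact c.E_sq h1
  · have h2 := c.E_sq h1
    have h3 := mem_C1.1 (c.Et_le h)
    calc g * g = g * g * (c.t * c.t) := by rw [c.tt, mul_one]
      _ = g * (g * c.t) * c.t := by group
      _ = g * (c.t * g) * c.t := by rw [h3]
      _ = g * c.t * (g * c.t) := by group
      _ = 1 := h2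

/-- The 2-subgroups of the centralizer of a conjugate of `t`. -/
theorem two_le {s : G} (hs : IsConj c.t s) {P : Subgroup G} (hP : IsPGroup 2 P) (h : P ≤ C1 s) :
    Nat.card P ≤ 16 ∧ ∀ p ∈ P, p * p = 1 := by
  obtain ⟨g, rfl⟩ := isConj_iff.1 hs
  rw [← StdB.Cfg.cj_C1, le_cj_iff_inv_le] at h
  obtain ⟨m, -, h1⟩ := c.sylE.conj_le (pg_cj hP g⁻¹) h
  rw [cj_cj] at h1
  refine ⟨by rw [← card_cj P (m * g⁻¹), ← c.card_Et]; exact card_le_of_le h1, fun p hp => ?_⟩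
  have := c.Et_sq (cj_le_iff.1 h1 p hp)
  rwa [conj_mul, conj_eq_one_iff] at this

theorem not_sq {s : G} (hs : IsConj c.t s) (x : G) : x * x ≠ s := by
  intro e
  have h1 : s * s = 1 := by
    obtain ⟨g, rfl⟩ := isConj_iff.1 hs
    rw [conj_mul, c.tt, mul_one, mul_inv_cancel]
  have h2 := (c.two_le hs (pg_zpowers_of_pow (g := x) (k := 2) (by
    rw [show x ^ 2 ^ 2 = x * x * (x * x) by norm_num [pow_succ, mul_assoc], e, h1]))
    (zpowers_le.2 (mem_C1.2 (by rw [← e, mul_assoc])))).2 x (mem_zpowers x)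
  rw [e] at h2
  rw [h2] at hs
  exact c.t_ne (isConj_one_right.1 hs.symm)

/-- The 2-elements of `N_{C(t)}(E)`. -/
theorem mem_Et_of {g : G} (h : g ∈ C1 c.t) (h' : g ∈ 𝐍[c.E]) {k : ℕ} (h2 : g ^ 2 ^ k = 1) :
    g ∈ c.E ⊔ zpowers c.t :=
  c.sylE.le_of_norm' (pg_zpowers_of_pow h2) (zpowers_le.2 h) (norm_sup (zpowers_le.2 h')
    (zpowers_le.2 (cent_le_norm _ (mem_cent.2 fun x hx => by
      obtain ⟨i, rfl⟩ := hx
      exact ((show Commute g c.t from mem_C1.1 h).zpow_right i).symm)))) (mem_zpowers _)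

theorem Et_cent : c.E ⊔ zpowers c.t ≤ 𝐂[c.E] := sup_le c.E_comm (zpowers_le.2 c.t_cent)

/-- `N_{C(t)}(E)` induces a group of odd order on `E`. -/
theorem odd_mat {a : G} (h : a ∈ C1 c.t) (h' : a ∈ 𝐍[c.E]) : Odd (orderOf (c.mat a)) := by
  obtain ⟨k, m, hm, e⟩ := Nat.exists_eq_two_pow_mul_odd (orderOf_pos a).ne'
  have h1 := c.mem_Et_of (pow_mem h m) (pow_mem h' m) (k := k) (by
    rw [← pow_mul, mul_comm, ← e, pow_orderOf_eq_one])
  have h2 := mat_eq_one (c.Et_cent h1)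
  rw [mat_pow h'] at h2
  exact hm.of_dvd_nat (orderOf_dvd_of_pow_eq_one h2)

theorem mem_O {g : G} (h : g ∈ C1 c.t) (h' : g ∈ 𝐂[c.E]) (ho : Odd (orderOf g)) : g ∈ c.O := by
  refine mem_of_sq ho ?_
  obtain ⟨e, he, o, ho', e1⟩ := c.cent_tE h h'
  have h1 : e * o * (e * o) ∈ c.O := by
    have : e * o * (e * o) = e * e * (o * o) := by
      calc _ = e * (o * e) * o := by group
        _ = _ := by rw [← mem_cent.1 (c.O_cent ho') e he]; group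
    rw [this, c.E_sq he, one_mul]
    exact mul_mem ho' ho'
  rcases e1 with rfl | rfl
  · exact h1
  · have h2 := mem_C1.1 (mul_mem (c.E_le_C he) (c.O_t ho'))
    have : c.t * (e * o) * (c.t * (e * o)) = c.t * c.t * (e * o * (e * o)) := by
      calc _ = c.t * (e * o * c.t) * (e * o) := by group
        _ = _ := by rw [h2]; group
    rwa [this, c.tt, one_mul]

theorem t_conj (g : G) : ∃ x ∈ c.X, g = x ∨ g = x * c.t := by
  rcases c.top g with h | h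
  · exact ⟨g, h, Or.inl rfl⟩
  · exact ⟨_, h, Or.inr (by rw [mul_assoc, c.tt, mul_one])⟩

theorem sq_mem_X (g : G) : g * g ∈ c.X := by
  obtain ⟨x, hx, rfl | rfl⟩ := c.t_conj g
  · exact mul_mem hx hx
  · have := mul_mem hx (c.nX.conj_mem x hx c.t)
    rwa [c.t_inv, ← mul_assoc, ← mul_assoc, mul_assoc (x * c.t)] at this

theorem mem_X_of_odd {g : G} (h : Odd (orderOf g)) : g ∈ c.X := mem_of_sq h (c.sq_mem_X g)

theorem O_le : c.O ≤ c.X := fun _ ho =>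
  c.mem_X_of_odd (c.odd.of_dvd_nat (c.O.orderOf_dvd_natCard ho))

theorem comm_le_X : ⁅(⊤ : Subgroup G), (⊤ : Subgroup G)⁆ ≤ c.X := by
  refine commutator_le.2 fun a _ b _ => ?_
  have h1 := mul_mem (mul_mem (c.sq_mem_X a) (c.sq_mem_X (a⁻¹ * b))) (inv_mem (c.sq_mem_X b))
  have h2 : a * a * (a⁻¹ * b * (a⁻¹ * b)) * (b * b)⁻¹ = ⁅a, b⁆ := by
    rw [commutatorElement_def]; group
  exact h2 ▸ h1

theorem σ_X : c.σ ∈ c.X :=
  c.mem_X_of_odd ((by decide : Odd 7).of_dvd_nat (orderOf_dvd_of_pow_eq_one c.σ7))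

theorem notX_of {Y : Subgroup G} (h : Y.relIndex ⊤ = 2) (ht : c.t ∉ Y) :
    c.X = Y ∧ ∀ g : G, g * c.t * g⁻¹ ∉ c.X := by
  rw [relIndex_top_right] at h
  have := normal_of_index_eq_two h
  have := c.simple
  have h1 : c.X ≤ Y := by
    rcases (inferInstance : (Y.subgroupOf c.X).Normal).eq_bot_or_eq_top with h2 | h2
    · rw [subgroupOf_eq_bot, disjoint_iff] at h2
      have h3 : c.σ * c.σ ∈ Y ⊓ c.X := ⟨mul_self_mem_of_index_two h _, c.sq_mem_X _⟩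
      rw [h2, mem_bot] at h3
      have h4 := c.σ7
      rw [show c.σ ^ 7 = (c.σ * c.σ) ^ 3 * c.σ by rw [← sq, ← pow_mul, ← pow_succ], h3, one_pow,
        one_mul] at h4
      exact absurd h4 c.σ_ne
    · exact subgroupOf_eq_top.1 h2
  refine ⟨le_antisymm h1 fun y hy => (c.top y).resolve_right fun h2 =>
    ht ((mul_mem_cancel_left hy).1 (h1 h2)), fun g hg => ht (h1 ?_)⟩
  simpa [mul_assoc] using c.nX.conj_mem _ hg g⁻¹

variable {c} {W : Subgroup G}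

theorem St.t_notMem (h : c.St W) : c.t ∉ W := fun ht =>
  c.t_notMem (h.inf ⟨ht, mem_C1.2 rfl⟩)

theorem St.σ_mem (h : c.St W) : c.σ ∈ 𝐍[W] := h.nA ⟨c.σ_t, c.σ_norm⟩

theorem St.σ_fpf (h : c.St W) {w : G} (hw : w ∈ W) (e : c.σ * w = w * c.σ) : w = 1 := by
  by_contra h1
  have hσ : c.σ * c.t = c.t * c.σ := mem_C1.1 (c.σ_t)
  have hn : zpowers c.t ≤ 𝐍[W ⊓ C1 c.σ] := norm_inf (zpowers_le.2 h.nt)
    (norm_of_le (zpowers_le.2 (mem_C1.2 hσ.symm)))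
  obtain ⟨n, hn'⟩ := PG.exists_iterCommutator_eq_bot_of_isPGroup (p := 2)
    (h.pg.to_inf_left (K := C1 c.σ)) (pg_zpowers c.tt) hn
  have h2 := PG.inf_centralizer_ne_bot_of_iterCommutator hn' hn
    (fun e' => h1 (mem_bot.1 (e' ▸ mem_inf.2 ⟨hw, mem_C1.2 e.symm⟩)))
  refine h2 (eq_bot_iff.2 fun x hx => ?_)
  obtain ⟨y, rfl⟩ := c.mem_E.1 (h.inf ⟨hx.1.1, mem_C1.2
    (mem_cent.1 hx.2 _ (mem_zpowers c.t)).symm⟩)
  rw [mem_bot, ε_eq_one]
  refine c.σ_fpf (c.ε_inj ?_)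
  rw [← mat_spec c.σ_norm, ← mem_C1.1 hx.1.2, mul_inv_cancel_right]

theorem St.exists_comm (h : c.St W) {w : G} (hw : w ∈ W) :
    ∃ u ∈ W, w = u⁻¹ * (c.σ * u * c.σ⁻¹) := by
  let f : W → W := fun u => ⟨(u : G)⁻¹ * (c.σ * u * c.σ⁻¹),
    mul_mem (inv_mem u.2) (conj_mem_of_norm h.σ_mem u.2)⟩
  have hf : Function.Injective f := fun u v e => by
    have e1 : (u : G)⁻¹ * (c.σ * u * c.σ⁻¹) = (v : G)⁻¹ * (c.σ * v * c.σ⁻¹) := congrArg Subtype.val e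
    have := h.σ_fpf (mul_mem v.2 (inv_mem u.2)) (by
      calc c.σ * (v * (u : G)⁻¹) = v * ((v : G)⁻¹ * (c.σ * v * c.σ⁻¹)) * c.σ * (u : G)⁻¹ := by group
        _ = _ := by rw [← e1]; group)
    exact Subtype.ext (mul_inv_eq_one.1 this).symm
  obtain ⟨u, hu⟩ := Finite.injective_iff_surjective.1 hf ⟨w, hw⟩
  exact ⟨u, u.2, (congrArg Subtype.val hu).symm⟩

theorem St.le_X (h : c.St W) : W ≤ c.X := fun w hw => by
  obtain ⟨u, -, rfl⟩ := h.exists_comm hw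
  have h1 := c.σ_X
  have := mul_mem (c.nX.conj_mem _ h1 u⁻¹) (inv_mem h1)
  simpa [mul_assoc] using this

theorem St.mem_sup (h : c.St W) {g : G} : g ∈ W ⊔ zpowers c.t ↔ g ∈ W ∨ g * c.t ∈ W :=
  mem_sup_two h.nt c.tt

theorem St.card_sup (h : c.St W) : Nat.card ↥(W ⊔ zpowers c.t) = 2 * Nat.card W :=
  PG.card_sup_zpowers Nat.prime_two h.nt h.t_notMem (by rw [pow_two, c.tt]; exact one_mem _)

theorem St.pg_sup (h : c.St W) : IsPGroup 2 ↥(W ⊔ zpowers c.t) :=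
  pg_sup' h.pg (pg_zpowers c.tt) (zpowers_le.2 h.nt)

theorem St.sup_inf (h : c.St W) : (W ⊔ zpowers c.t) ⊓ C1 c.t = c.E ⊔ zpowers c.t :=
  c.sylE.eq_of_le h.pg_sup.to_inf_left (le_inf (sup_le_sup_right h.E_le _) c.Et_le) inf_le_right

open Inv.U3 in
theorem St.setup (h : c.St W) : ∃ (K : Type) (_ : Field K) (_ : Finite K) (_ : CharP K 2) (l : K)
    (α ρ : MulAut W) (e : Multiplicative K →* W), Nat.card K = 8 ∧ Setup l α ρ e ∧
    (∀ w : W, (α w : G) = c.t * w * c.t) ∧ (∀ w : W, (ρ w : G) = c.σ * w * c.σ⁻¹) ∧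
    ∀ w : W, w ∈ e.range ↔ (w : G) ∈ c.E := by
  have hσ : c.σ ∈ 𝐍[W] := h.σ_mem
  let α : MulAut W := W.normalizerMonoidHom ⟨c.t, h.nt⟩
  let ρ : MulAut W := W.normalizerMonoidHom ⟨c.σ, hσ⟩
  have hα : ∀ w : W, (α w : G) = c.t * w * c.t := fun w => by
    change c.t * w * c.t⁻¹ = _
    rw [c.t_inv]
  have hρ : ∀ w : W, (ρ w : G) = c.σ * w * c.σ⁻¹ := fun _ => rfl
  have hp : ∀ (k : ℕ) (w : W), ((ρ ^ k) w : G) = c.σ ^ k * w * (c.σ ^ k)⁻¹ := fun k w => by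
    rw [← map_pow]; rfl
  obtain ⟨K, _, _, e, l, e1, e2, e3, e4⟩ := exists_singer_field (c.E.subgroupOf W)
    ⟨⟨fun x y => Subtype.ext (Subtype.ext (mem_cent.1 (c.E_comm y.2) _ x.2))⟩⟩ ρ
    (fun x hx => conj_mem_of_norm c.σ_norm hx)
    (fun h0 => c.z_ne (congrArg Subtype.val
      ((eq_bot_iff_forall _).1 h0 ⟨c.z, h.E_le c.z_mem⟩ c.z_mem)))
    (fun x y hx hy x1 y1 => by
      obtain ⟨a, ha⟩ := c.mem_E.1 hx
      obtain ⟨b, hb⟩ := c.mem_E.1 hy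
      obtain ⟨k, hk⟩ := c.σ_trans (x := a) (y := b)
        (fun h0 => x1 (Subtype.ext (ha.symm.trans (c.ε_eq_one.2 h0))))
        (fun h0 => y1 (Subtype.ext (hb.symm.trans (c.ε_eq_one.2 h0))))
      exact ⟨k, Subtype.ext (by rw [hp]; rwa [ha, hb] at hk)⟩)
  have hm : ∀ w : W, w ∈ e.range ↔ (w : G) ∈ c.E := fun w => by rw [e2]; rfl
  have hK : Nat.card K = 8 := by
    rw [← c.card_E, ← Nat.card_congr (subgroupOfEquivOfLe h.E_le).toEquiv, ← e2,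
      ← Nat.card_congr (MonoidHom.ofInjective e1).toEquiv]
    rfl
  have h2 : (2 : K) = 0 := by
    have := c.E_sq ((hm _).1 ⟨Multiplicative.ofAdd 1, rfl⟩)
    rw [← coe_mul, ← map_mul, OneMemClass.coe_eq_one, map_eq_one_iff _ e1] at this
    exact one_add_one_eq_two.symm.trans this
  have tσ := mem_C1.1 (c.σ_t)
  refine ⟨K, _, ‹_›, CharTwo.of_one_ne_zero_of_two_eq_zero one_ne_zero h2, l, α, ρ, e, hK,
    ⟨h.pg, fun x => Subtype.ext ?_, fun x => Subtype.ext ?_, ⟨7, by decide, ?_⟩, e1, fun x => ?_,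
      e3, e4⟩, hα, hρ, hm⟩
  · rw [hα, hα]
    calc _ = c.t * c.t * x * (c.t * c.t) := by group
      _ = _ := by rw [c.tt, one_mul, mul_one]
  · rw [hα, hρ, hρ, hα]
    calc _ = c.t * c.σ * x * (c.σ⁻¹ * c.t) := by group
      _ = _ := by rw [← tσ, mem_C1.1 (inv_mem (c.σ_t))]; group
  · ext x
    rw [hp, c.σ7]; simp
  · rw [hm, Subtype.ext_iff, hα]
    constructor
    · intro e
      refine h.inf ⟨x.2, mem_C1.2 ?_⟩
      conv_rhs => rw [← e]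
      rw [← mul_assoc, ← mul_assoc, c.tt, one_mul]
    · intro e
      rw [← mem_C1.1 (c.E_le_C e), mul_assoc, c.tt, mul_one]

theorem Iv.exists_pi (h : c.Iv W) : ∃ r π, c.Pi W r π := by
  obtain ⟨K, _, _, _, l, α, ρ, e, -, hs, -, -, hm⟩ := h.toSt.setup
  obtain ⟨r, τ, t1, t2, -, t4⟩ := hs.exists_top
    (fun x y => Subtype.ext (mem_cent.1 (h.comm y.2) x x.2))
    (fun x => by
      rw [hm, Subtype.ext_iff]
      exact ⟨h.om x x.2, c.E_sq⟩)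
  have h1 : ∀ w : G, ∃ x, w ∈ W → c.ε x = w ^ 2 ^ r := fun w => by
    by_cases hw : w ∈ W
    · obtain ⟨x, hx⟩ := c.mem_E.1 ((hm _).1 ⟨_, t2 ⟨w, hw⟩⟩)
      exact ⟨x, fun _ => hx⟩
    · exact ⟨0, fun h => absurd h hw⟩
  choose π hπ using h1
  refine ⟨r, π, fun w hw w' hw' => c.ε_inj ?_, hπ, fun x => ?_, fun w hw h0 => ?_⟩
  · rw [c.ε_add, hπ _ hw, hπ _ hw', hπ _ (mul_mem hw hw'),
      Commute.mul_pow (mem_cent.1 (h.comm hw') w hw)]
  · obtain ⟨k, hk⟩ := (hm ⟨c.ε x, h.E_le (c.ε_mem x)⟩).2 (c.ε_mem x)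
    obtain ⟨w, rfl⟩ := t1 k
    exact ⟨w, w.2, c.ε_inj ((hπ _ w.2).trans (congrArg Subtype.val ((t2 w).symm.trans hk)))⟩
  · obtain ⟨y, hy⟩ := t4 ⟨w, hw⟩ (hs.inj (Subtype.ext (by
      rw [t2, map_one]
      exact (hπ w hw).symm.trans (h0 ▸ c.ε_zero))))
    exact ⟨y, y.2, congrArg Subtype.val hy⟩

theorem Pi.sq {r : ℕ} {π : G → V3} (h : c.Pi W r π) {w : G} (hw : w ∈ W) : π (w * w) = 0 := by
  rw [h.add w hw w hw]
  generalize π w = x
  revert x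
  decide

theorem Pi.one {r : ℕ} {π : G → V3} (h : c.Pi W r π) : π 1 = 0 := by
  simpa using h.sq W.one_mem

theorem Pi.inv {r : ℕ} {π : G → V3} (h : c.Pi W r π) {w : G} (hw : w ∈ W) : π w⁻¹ = π w := by
  have k : ∀ x y : V3, x + y = 0 → x = y := by decide
  exact k _ _ (by rw [← h.add _ (inv_mem hw) _ hw, inv_mul_cancel, h.one])

theorem Pi.exp {r : ℕ} {π : G → V3} (h : c.Pi W r π) {w : G} (hw : w ∈ W) :
    w ^ 2 ^ (r + 1) = 1 := by
  rw [pow_succ, pow_mul, _root_.sq, ← h.pow w hw, c.ε_sq]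

theorem Pi.card {r : ℕ} {π : G → V3} (h : c.Pi W r π) (h' : c.Iv W) :
    Nat.card W = 8 ^ (r + 1) := by
  letI : CommGroup W := { (inferInstance : Group W) with
    mul_comm := fun x y => Subtype.ext (mem_cent.1 (h'.comm y.2) x x.2) }
  have key : ∀ i ≤ r + 1, Nat.card (powMonoidHom (2 ^ i) : W →* W).ker = 8 ^ i := by
    intro i hi
    induction i with
    | zero =>
      rw [pow_zero, pow_zero, card_eq_one, eq_bot_iff_forall]
      exact fun x hx => (pow_one x).symm.trans hx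
    | succ i ih =>
      have h1 : (powMonoidHom (2 ^ i) : W →* W).ker ≤ (powMonoidHom (2 ^ (i + 1))).ker :=
        fun x hx => by
          rw [MonoidHom.mem_ker, powMonoidHom_apply] at hx ⊢
          rw [pow_succ, pow_mul, hx, one_pow]
      have h2 : (powMonoidHom (2 ^ (i + 1)) : W →* W).ker.map (powMonoidHom (2 ^ i)) =
          c.E.subgroupOf W := by
        refine le_antisymm ?_ fun x hx => ?_
        · rintro _ ⟨x, hx, rfl⟩
          rw [SetLike.mem_coe, MonoidHom.mem_ker, powMonoidHom_apply, pow_succ, pow_mul,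
            _root_.sq] at hx
          exact h'.om _ (x ^ 2 ^ i).2 (congrArg Subtype.val hx)
        · obtain ⟨a, ha⟩ := c.mem_E.1 hx
          obtain ⟨w, hw, rfl⟩ := h.surj a
          obtain ⟨k, rfl⟩ := Nat.exists_eq_add_of_le' (show i ≤ r by omega)
          refine ⟨⟨w, hw⟩ ^ 2 ^ k, Subtype.ext ?_, Subtype.ext ?_⟩
          · exact (pow_mul w _ _).symm.trans (by rw [← pow_add]; exact h.exp hw)
          · exact (pow_mul w _ _).symm.trans (by rw [← pow_add, ← h.pow w hw]; exact ha)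
      rw [← relIndex_bot_left, ← relIndex_mul_relIndex ⊥ _ _ bot_le h1, relIndex_bot_left,
        relIndex_ker, ih (by omega), h2, Nat.card_congr (subgroupOfEquivOfLe h'.E_le).toEquiv,
        c.card_E, pow_succ]
  rw [← key _ le_rfl, (eq_top_iff' (powMonoidHom (2 ^ (r + 1)) : W →* W).ker).2
    fun x => Subtype.ext (h.exp x.2), card_top]

/-- A subgroup of `W` that maps onto `V3` is `W`. -/
theorem Pi.le_of_surj {r : ℕ} {π : G → V3} (h : c.Pi W r π) (h' : c.Iv W) {U : Subgroup G}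
    (hU : U ≤ W) (hs : ∀ x, ∃ u ∈ U, π u = x) : W ≤ U := by
  have key : ∀ (i : ℕ), ∀ w ∈ W, ∃ u ∈ U, ∃ y ∈ W, w = u * y ^ 2 ^ i := by
    intro i w hw
    induction i with
    | zero => exact ⟨1, one_mem _, w, hw, by simp⟩
    | succ i ih =>
      obtain ⟨u, hu, y, hy, rfl⟩ := ih
      obtain ⟨v, hv, e⟩ := hs (π y)
      obtain ⟨x, hx, e2⟩ := h.ker _ (mul_mem (inv_mem (hU hv)) hy) (by
        rw [h.add _ (inv_mem (hU hv)) _ hy, h.inv (hU hv), e, ← h.add _ hy _ hy, h.sq hy])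
      refine ⟨u * v ^ 2 ^ i, mul_mem hu (pow_mem hv _), x, hx, ?_⟩
      rw [inv_mul_eq_iff_eq_mul.1 e2, pow_succ', pow_mul, _root_.sq, mul_assoc,
        Commute.mul_pow (mem_cent.1 (h'.comm (mul_mem hx hx)) v (hU hv))]
  intro w hw
  obtain ⟨u, hu, y, hy, rfl⟩ := key (r + 1) w hw
  rwa [h.exp hy, mul_one]

theorem Pi.eq_E {π : G → V3} (h : c.Pi W 0 π) : W ≤ c.E := fun w hw => by
  have := c.ε_mem (π w)
  rwa [h.pow w hw, pow_zero, pow_one] at this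

theorem Pi.exists_sq {r : ℕ} {π : G → V3} (h : c.Pi W r π) (hr : r ≠ 0) {e : G} (he : e ∈ c.E) :
    ∃ w ∈ W, w * w = e := by
  obtain ⟨x, rfl⟩ := c.mem_E.1 he
  obtain ⟨w, hw, rfl⟩ := h.surj x
  obtain ⟨k, rfl⟩ := Nat.exists_eq_succ_of_ne_zero hr
  exact ⟨w ^ 2 ^ k, pow_mem hw _, by rw [h.pow w hw, pow_succ, pow_mul, _root_.sq]⟩

theorem Pi.π_E {r : ℕ} {π : G → V3} (h : c.Pi W r π) (h' : c.E ≤ W) (hr : r ≠ 0) {e : G}
    (he : e ∈ c.E) : π e = 0 := by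
  obtain ⟨w, hw, rfl⟩ := h.exists_sq hr he
  exact h.sq hw

theorem Iv.notW (h : c.Iv W) {s : G} (hs : IsConj c.t s) : s ∉ W := fun hw => by
  refine c.not_conj_E (h.om s hw ?_) hs
  obtain ⟨g, rfl⟩ := isConj_iff.1 hs
  calc _ = g * (c.t * c.t) * g⁻¹ := by group
    _ = 1 := by rw [c.tt]; group

theorem Iv.sup_le (h : c.Iv W) : W ⊔ zpowers c.t ≤ c.M W ⊓ 𝐂[c.O] :=
  le_inf le_normalizer (_root_.sup_le h.cO (zpowers_le.2 (mem_cent.2 fun _ ho => mem_C1.1 (c.O_t ho))))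

theorem Iv.conj_t (h : c.Iv W) {g : G} (hg : g ∈ c.M W) : g * c.t * g⁻¹ * c.t ∈ W :=
  (h.toSt.mem_sup.1 (conj_mem_of_norm hg (mem_sup_right (mem_zpowers _)))).resolve_left
    (h.notW (isConj_iff.2 ⟨g, rfl⟩))

theorem Iv.nA_le (h : c.Iv W) : C1 c.t ⊓ 𝐍[c.E] ≤ c.M W :=
  norm_sup h.nA (norm_of_cent fun a ha => mem_cent.2 fun _ hu => by
    obtain ⟨k, rfl⟩ := mem_zpowers_iff.1 hu
    exact (Commute.zpow_right (mem_C1.1 ha.1) k).symm)

theorem Iv.σ_mem (h : c.Iv W) : c.σ ∈ c.M W ⊓ 𝐂[c.O] := ⟨h.nA_le ⟨c.σ_t, c.σ_norm⟩, c.σ_O⟩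

theorem Iv.b_mem (h : c.Iv W) : c.b ∈ c.M W ⊓ 𝐂[c.O] := ⟨h.nA_le ⟨c.b_t, c.b_norm⟩, c.b_O⟩

end Cfg

end Cfsg.Agent.L2S.E8
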