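import Mathlib
import Cfsg.Agent.L2S.E8B
import Cfsg.Agent.J1S.LJ

/-! The elements `j` and `a` (PLAN: LJ8). -/

set_option autoImplicit false
set_option linter.unusedSectionVars false

namespace Cfsg.Agent.L2S.E8

open Cfsg Cfsg.Agent.GT Cfsg.Agent.Loc.Mss Cfsg.Agent.StdB Cfsg.Agent.J1S Subgroup
open scoped commutatorElement

variable {G : Type*} [Group G] [Finite G] {c : Cfg G}

namespace LJ8

open J1S.LJ (conj_Y0 fix_R eq_one_of_odd)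

variable (d : c.LD)

theorem comm {w w' : G} (hw : w ∈ d.W) (hw' : w' ∈ d.W) : w * w' = w' * w :=
  mem_cent.1 (d.l1.comm hw') w hw

theorem π_conj' {n w : G} (hn : n ∈ d.N) (hw : w ∈ d.W) :
    d.π (n⁻¹ * w * n) = (c.mat n)⁻¹.ap (d.π w) := by
  have := d.π_conj (inv_mem hn) hw
  rwa [inv_inv, Cfg.mat_inv (d.nE hn)] at this

theorem sq_mul {n w : G} (hn : n ∈ d.N) (h : n * n ∈ d.W) (hw : w ∈ d.W) :
    d.π (n * w * (n * w)) = d.π (n * n) + ((c.mat n)⁻¹.ap (d.π w) + d.π w) := by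
  have h1 := conj_mem_of_norm' (d.nW hn) hw
  rw [show n * w * (n * w) = n * n * (n⁻¹ * w * n * w) by group, d.pi.add _ h _ (mul_mem h1 hw),
    d.pi.add _ h1 _ hw, π_conj' d hn hw]

theorem sq_mem {n : G} (hn : n ∈ d.N) (h : c.mat n * c.mat n = 1) : n * n ∈ d.W :=
  d.ker _ (mul_mem hn hn) (by rw [Cfg.mat_mul (d.nE hn) (d.nE hn), h])

theorem π_fix {n w : G} (hn : n ∈ d.N) (hw : w ∈ d.W) (h : n * w = w * n) :
    (c.mat n).ap (d.π w) = d.π w := by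
  rw [← d.π_conj hn hw, h, mul_inv_cancel_right]

theorem jj_mem : d.j * d.j ∈ d.D := by
  refine ⟨sq_mem d d.j_mem (by rw [d.j_mat]; decide), mem_C1.2 ?_⟩
  have h := d.jρ
  have h1 : d.j * d.ρ⁻¹ * d.j⁻¹ = d.ρ := by
    rw [← conj_inv, h, inv_inv]
  calc d.j * d.j * d.ρ = d.j * (d.j * d.ρ * d.j⁻¹) * d.j⁻¹ * (d.j * d.j) := by group
    _ = _ := by rw [h, h1]

theorem π_D {w : G} (hw : w ∈ d.D) : d.π w = 0 ∨ d.π w = (1, 0, 0) :=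
  fix_R _ (d.mat_ρ ▸ π_fix d d.ρ_mem hw.1 (mem_C1.1 hw.2).symm)

theorem exists_Y0 : ∃ x ∈ d.N, c.mat x = mY0 ∧ ∃ v, d.π (x * x) = mY0.ap v + v := by
  obtain ⟨y, hy, my⟩ := d.surj mY1
  have hj := d.j_mem
  have hy' : d.j * y * d.j⁻¹ ∈ d.N := mul_mem (mul_mem hj hy) (inv_mem hj)
  have hx : y * (d.j * y * d.j⁻¹) ∈ d.N := mul_mem hy hy'
  have mx : c.mat (y * (d.j * y * d.j⁻¹)) = mY0 := by
    rw [Cfg.mat_mul (d.nE hy) (d.nE hy'), Cfg.mat_conj (d.nE hj) (d.nE hy), my, d.j_mat]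
    decide
  refine ⟨_, hx, mx, ?_⟩
  set x := y * (d.j * y * d.j⁻¹) with hxd
  have hxx : x * x ∈ d.W := sq_mem d hx (by rw [mx]; decide)
  have hd := jj_mem d
  have h1 := conj_mem_of_norm' (d.nW hy) hd.1
  have hδ : y⁻¹ * (d.j * d.j) * y * (d.j * d.j)⁻¹ ∈ d.W := mul_mem h1 (inv_mem hd.1)
  have πδ : d.π (y⁻¹ * (d.j * d.j) * y * (d.j * d.j)⁻¹) =
      mY1⁻¹.ap (d.π (d.j * d.j)) + d.π (d.j * d.j) := by
    rw [d.pi.add _ h1 _ (inv_mem hd.1), d.pi.inv hd.1, π_conj' d hy hd.1, my]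
  have hx' : y⁻¹ * x * y ∈ d.N := mul_mem (mul_mem (inv_mem hy) hx) hy
  have mx' : c.mat (y⁻¹ * x * y) = mY0 := by
    rw [Cfg.mat_mul (d.nE (mul_mem (inv_mem hy) hx)) (d.nE hy),
      Cfg.mat_mul (d.nE (inv_mem hy)) (d.nE hx), Cfg.mat_inv (d.nE hy), my, mx]
    decide
  have e1 : y⁻¹ * x * y * (y⁻¹ * x * y) = y⁻¹ * (x * x) * y := by group
  have h2 := sq_mul d hx' (e1 ▸ conj_mem_of_norm' (d.nW hy) hxx) hδ
  have e2 : y⁻¹ * x * y * (y⁻¹ * (d.j * d.j) * y * (d.j * d.j)⁻¹) = d.j * x * d.j⁻¹ := by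
    rw [hxd]; group
  rw [e2, e1, show d.j * x * d.j⁻¹ * (d.j * x * d.j⁻¹) = d.j * (x * x) * d.j⁻¹ by group,
    d.π_conj hj hxx, π_conj' d hy hxx, πδ, mx', my, d.j_mat] at h2
  have h3 := π_fix d hx hxx (by group)
  rw [mx] at h3
  have h4 := π_D d hd
  generalize d.π (x * x) = p at h2 h3 ⊢
  generalize d.π (d.j * d.j) = q at h2 h4
  revert p q
  decide

theorem ρρ : d.ρ * d.ρ = d.ρ⁻¹ := by
  rw [eq_inv_iff_mul_eq_one, ← d.ρ3, pow_succ, sq]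

theorem ρ_t : d.ρ ∈ C1 c.t := by
  obtain ⟨o, ho, e⟩ := d.ρ_eq
  exact e ▸ mul_mem c.b_t (c.O_t ho)

theorem conj_t {w : G} (hw : w ∈ d.W) : w * c.t * w⁻¹ = w * w * c.t := by
  rw [← d.l1.inv w hw, ← mul_assoc, ← mul_assoc, mul_assoc w c.t, c.tt, mul_one]

theorem ν_D {w : G} (hw : w ∈ d.D) : d.ν w = w * w * w := by
  have h := mem_C1.1 hw.2
  rw [Cfg.LD.ν, ← h, mul_inv_cancel_right, mul_assoc d.ρ⁻¹, h, inv_mul_cancel_left]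

end LJ8

namespace Cfg.LD

open LJ8
open J1S.LJ (conj_Y0 fix_R eq_one_of_odd)

variable (d : c.LD)

/-- The square of a lift of a transvection lies over its centre. -/
theorem π_sq {n : G} (hn : n ∈ d.N) (h : c.mat n * c.mat n = 1) :
    n * n ∈ d.W ∧ ∃ x, d.π (n * n) = (c.mat n).ap x + x := by
  refine ⟨sq_mem d hn h, ?_⟩
  by_cases h1 : c.mat n = 1
  · exact ⟨0, by rw [d.pi.sq (d.ker n hn h1), h1]; decide⟩
  obtain ⟨m, e⟩ := conj_Y0 _ h h1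
  obtain ⟨g, hg, rfl⟩ := d.surj m
  obtain ⟨x, hx, mx, v, hv⟩ := exists_Y0 d
  have hxx : x * x ∈ d.W := sq_mem d hx (by rw [mx]; decide)
  have hx' : g * x * g⁻¹ ∈ d.N := mul_mem (mul_mem hg hx) (inv_mem hg)
  have mx' : c.mat (g * x * g⁻¹) = c.mat n := by rw [mat_conj (d.nE hg) (d.nE hx), mx, e]
  have hw : (g * x * g⁻¹)⁻¹ * n ∈ d.W := d.ker _ (mul_mem (inv_mem hx') hn) (by
    rw [mat_mul (d.nE (inv_mem hx')) (d.nE hn), mat_inv (d.nE hx'), mx', inv_mul_cancel])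
  have h2 := sq_mul d hx' (sq_mem d hx' (by rw [mx', h])) hw
  rw [mul_inv_cancel_left, conj_mul, d.π_conj hg hxx, hv, mx', inv_eq_of_mul_eq_one_right h] at h2
  refine ⟨(c.mat g).ap v + d.π ((g * x * g⁻¹)⁻¹ * n), ?_⟩
  have h3 : (c.mat g).ap (mY0.ap v) = (c.mat n).ap ((c.mat g).ap v) := by
    rw [e, ← G3.ap_mul, ← G3.ap_mul, inv_mul_cancel_right]
  rw [h2, G3.ap_add, G3.ap_add, h3]
  abel

theorem ν_mem {w : G} (hw : w ∈ d.W) : d.ν w ∈ d.D := by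
  have h1 := conj_mem_of_norm (d.nW d.ρ_mem) hw
  have h2 := conj_mem_of_norm' (d.nW d.ρ_mem) hw
  refine ⟨mul_mem (mul_mem hw h1) h2, mem_C1.2 (mul_inv_eq_iff_eq_mul.1 ?_).symm⟩
  have e : d.ρ * (d.ρ * w * d.ρ⁻¹) * d.ρ⁻¹ = d.ρ⁻¹ * w * d.ρ := by
    calc _ = d.ρ * d.ρ * w * (d.ρ * d.ρ)⁻¹ := by group
      _ = _ := by rw [ρρ d, inv_inv]
  calc d.ρ * d.ν w * d.ρ⁻¹
      = d.ρ * w * d.ρ⁻¹ * (d.ρ * (d.ρ * w * d.ρ⁻¹) * d.ρ⁻¹) * w := by rw [ν]; group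
    _ = d.ν w := by rw [e, ← comm d hw (mul_mem h1 h2), ν, mul_assoc w]

theorem ν_mul {w w' : G} (hw : w ∈ d.W) (hw' : w' ∈ d.W) : d.ν (w * w') = d.ν w * d.ν w' := by
  have h1 := conj_mem_of_norm (d.nW d.ρ_mem) hw
  have h2 := conj_mem_of_norm' (d.nW d.ρ_mem) hw
  have h1' := conj_mem_of_norm (d.nW d.ρ_mem) hw'
  have e : d.ρ⁻¹ * (w * w') * d.ρ = d.ρ⁻¹ * w * d.ρ * (d.ρ⁻¹ * w' * d.ρ) := by group
  rw [ν, ν, ν, ← conj_mul, e, Commute.mul_mul_mul_comm (comm d hw' h1),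
    Commute.mul_mul_mul_comm (comm d (mul_mem hw' h1') h2)]

theorem π_ν {w : G} (hw : w ∈ d.W) : d.π (d.ν w) = ((d.π w).1, 0, 0) := by
  have h1 := conj_mem_of_norm (d.nW d.ρ_mem) hw
  have h2 := conj_mem_of_norm' (d.nW d.ρ_mem) hw
  rw [ν, d.pi.add _ (mul_mem hw h1) _ h2, d.pi.add _ hw _ h1, d.π_conj d.ρ_mem hw,
    π_conj' d d.ρ_mem hw, d.mat_ρ]
  generalize d.π w = x
  revert x
  decide

theorem ν_ε (x : V3) : d.ν (c.ε x) = c.ε (x.1, 0, 0) := by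
  have h := mat_spec (inv_mem (d.nE d.ρ_mem)) x
  rw [inv_inv, mat_inv (d.nE d.ρ_mem)] at h
  rw [ν, h, mat_spec (d.nE d.ρ_mem), d.mat_ρ, ← ε_add, ← ε_add]
  congr 1
  clear h
  revert x
  decide

end Cfg.LD

namespace LJ8

open J1S.LJ (conj_Y0 fix_R eq_one_of_odd)

variable (d : c.LD)

theorem a_mem : d.a ∈ d.D := by
  refine ⟨d.tN _ d.j_mem, mem_C1.2 ?_⟩
  have h := mem_C1.1 (ρ_t d)
  have h' := mem_C1.1 (inv_mem (ρ_t d))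
  have h1 : d.ρ * d.j = d.j * d.ρ⁻¹ := by
    rw [← mul_inv_eq_iff_eq_mul.1 (show d.j * d.ρ⁻¹ * d.j⁻¹ = d.ρ by rw [← conj_inv, d.jρ, inv_inv])]
  have h2 : d.ρ⁻¹ * d.j⁻¹ = d.j⁻¹ * d.ρ := by
    calc d.ρ⁻¹ * d.j⁻¹ = d.j⁻¹ * (d.j * d.ρ⁻¹) * d.j⁻¹ := by group
      _ = _ := by rw [← h1]; group
  calc d.a * d.ρ = d.j * c.t * (d.j⁻¹ * d.ρ) * c.t := by rw [Cfg.LD.a, mul_assoc _ c.t, ← h]; group
    _ = d.j * (c.t * d.ρ⁻¹) * d.j⁻¹ * c.t := by rw [← h2]; group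
    _ = d.ρ * d.a := by rw [← h', ← mul_assoc, ← h1, Cfg.LD.a]; group

theorem π_a : d.π d.a = (1, 0, 0) := by
  refine (π_D d (a_mem d)).resolve_left fun h => ?_
  obtain ⟨u, hu, e⟩ := d.pi.ker _ (a_mem d).1 h
  have h1 : u⁻¹ * d.j ∈ C1 c.t := mem_C1.2 (by
    have h2 : d.j * c.t * d.j⁻¹ = u * c.t * u⁻¹ := by
      rw [conj_t d hu, ← e, Cfg.LD.a, mul_assoc _ c.t c.t, c.tt, mul_one]
    calc u⁻¹ * d.j * c.t = u⁻¹ * (d.j * c.t * d.j⁻¹) * d.j := by group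
      _ = _ := by rw [h2]; group)
  have hu' := d.nE (d.W_le (inv_mem hu))
  have h2 : c.mat (u⁻¹ * d.j) = mJ := by
    rw [Cfg.mat_mul hu' (d.nE d.j_mem), d.mat_W (inv_mem hu), one_mul, d.j_mat]
  have h6 := c.odd_mat h1 (mul_mem hu' (d.nE d.j_mem))
  rw [h2, orderOf_eq_prime (p := 2) (by decide) (by decide)] at h6
  exact absurd h6 (by decide)

theorem sq_D {w : G} (hw : w ∈ d.D) (h : d.π w = 0) : ∃ e ∈ d.D, w = e * e := by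
  obtain ⟨u, hu, e⟩ := d.pi.ker _ hw.1 h
  have h1 := d.ν_mem hu
  refine ⟨d.ν u * w⁻¹, mul_mem h1 (inv_mem hw), ?_⟩
  rw [Commute.mul_mul_mul_comm (comm d (inv_mem hw.1) h1.1), ← d.ν_mul hu hu, ← e, ν_D d hw]
  group

theorem D_le : d.D ≤ zpowers d.a := by
  have ha := a_mem d
  have h1 : ∀ w ∈ d.D, ∃ b ∈ zpowers d.a, ∃ e ∈ d.D, w = b * (e * e) := fun w hw => by
    rcases π_D d hw with h | h
    · obtain ⟨e, he, h2⟩ := sq_D d hw h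
      exact ⟨1, one_mem _, e, he, by rw [one_mul, h2]⟩
    · obtain ⟨e, he, h2⟩ := sq_D d (mul_mem (inv_mem ha) hw) (by
        rw [d.pi.add _ (inv_mem ha.1) _ hw.1, d.pi.inv ha.1, π_a, h]; decide)
      exact ⟨d.a, mem_zpowers _, e, he, by rw [← h2, mul_inv_cancel_left]⟩
  have h2 : ∀ k : ℕ, ∀ w ∈ d.D, w ^ 2 ^ k = 1 → w ∈ zpowers d.a := by
    have h3 : ∀ k : ℕ, ∀ w ∈ d.D, ∃ b ∈ zpowers d.a, ∃ e ∈ d.D, w = b * e ^ 2 ^ k := by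
      intro k
      induction k with
      | zero => exact fun w hw => ⟨1, one_mem _, w, hw, by simp⟩
      | succ k ih =>
        intro w hw
        obtain ⟨b, hb, e, he, rfl⟩ := ih w hw
        obtain ⟨b', hb', e', he', h4⟩ := h1 e he
        refine ⟨b * b' ^ 2 ^ k, mul_mem hb (pow_mem hb' _), e', he', ?_⟩
        have hb'' : b' ∈ d.W := (zpowers_le.2 ha.1) hb'
        rw [h4, Commute.mul_pow (comm d hb'' (mul_mem he'.1 he'.1)), ← sq, ← pow_mul, ← pow_succ',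
          mul_assoc]
    intro _ w hw _
    obtain ⟨b, hb, e, he, h4⟩ := h3 (d.r + 1) w hw
    rwa [h4, d.pi.exp he.1, mul_one]
  exact fun w hw => h2 _ w hw (d.pi.exp hw.1)

theorem π_jj : d.π (d.j * d.j) = 0 := by
  obtain ⟨-, x, hx⟩ := d.π_sq d.j_mem (by rw [d.j_mat]; decide)
  have h := π_D d (jj_mem d)
  rw [hx, d.j_mat] at h ⊢
  clear hx
  revert x
  decide

theorem j_a : d.j * d.a * d.j⁻¹ = d.j * d.j * (d.j * d.j) * d.a⁻¹ := by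
  have h := conj_t d (jj_mem d).1
  calc d.j * d.a * d.j⁻¹ = d.j * d.j * c.t * (d.j * d.j)⁻¹ * (d.j * c.t * d.j⁻¹) := by
        rw [Cfg.LD.a]; group
    _ = _ := by rw [h, Cfg.LD.a]; simp only [mul_inv_rev, inv_inv, c.t_inv, mul_assoc]

theorem j4 : d.j * d.j * (d.j * d.j) = 1 := by
  have hd := jj_mem d
  obtain ⟨e, he, h1⟩ := sq_D d hd (π_jj d)
  obtain ⟨k, rfl⟩ := mem_zpowers_iff.1 (D_le d he)
  have h2 := j_a d
  have h3 : d.j * (d.a ^ k * d.a ^ k) * d.j⁻¹ = d.a ^ k * d.a ^ k := by rw [← h1]; group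
  rw [← conj_mul, ← conj_zpow, h2, h1] at h3
  refine eq_one_of_odd (n := k) (d.pi.exp (mul_mem hd.1 hd.1)) ?_
  rw [h1]
  rw [← mul_inv_eq_one] at h3
  rw [← h3]
  group

theorem jj : d.j * d.j = 1 ∨ (d.j * d.j = c.z ∧ d.r ≠ 0) := by
  have hd := jj_mem d
  obtain ⟨x, hx⟩ := c.mem_E.1 (d.l1.om _ hd.1 (j4 d))
  have h1 : mR.ap x = x := c.ε_inj (by
    rw [← d.mat_ρ, ← Cfg.mat_spec (d.nE d.ρ_mem), hx, ← mem_C1.1 hd.2, mul_inv_cancel_right])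
  rcases fix_R x h1 with rfl | rfl
  · exact Or.inl (hx.symm.trans c.ε_zero)
  · refine Or.inr ⟨hx.symm.trans c.ε_z, fun h => c.z_ne ?_⟩
    have h2 := d.pi.pow _ hd.1
    rw [π_jj, h, c.ε_zero, pow_zero, pow_one, ← hx, c.ε_z] at h2
    exact h2.symm

end LJ8

theorem Cfg.LD.jd (d : c.LD) : d.JD :=
  ⟨LJ8.a_mem d, LJ8.π_a d, LJ8.D_le d, by rw [LJ8.j_a, LJ8.j4, one_mul], LJ8.jj d⟩

end Cfsg.Agent.L2S.E8
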